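import Groth.Prelude.Def_W4stktopologysheavesBas
import Mathlib.Topology.Sheaves.SheafCondition.UniqueGluing
import Mathlib.Topology.Sets.Opens

/-!
Sheaves of sets on a basis: pointwise separatedness and gluing.
-/

universe u

open CategoryTheory TopologicalSpace Opposite

namespace Groth.Agent.ShB16

variable {X : Type u} [TopologicalSpace X] {B : Set (Opens X)}

lemma exists_member (hB : Opens.IsBasis B) {U : Opens X} {x : X} (hx : x ∈ U) :
    ∃ W : B, x ∈ (W : Opens X) ∧ (W : Opens X) ≤ U := by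
  obtain ⟨W, hW, hxW, hWU⟩ := Opens.isBasis_iff_nbhd.1 hB hx
  exact ⟨⟨W, hW⟩, hxW, hWU⟩

lemma mem_iSup_of_cover {ι : Type*} {U : Opens X} {V : ι → Opens X} (h : U ≤ ⨆ i, V i) {x : X}
    (hx : x ∈ U) : ∃ i, x ∈ V i :=
  Opens.mem_iSup.1 (h hx)

variable (F : ShB.Pre B)

/-- A cofinal system of covers. -/
def Cofinal (C : ∀ _U : B, Set (ShB.Cover B)) : Prop :=
  (∀ U, ∀ c ∈ C U, c.U = U) ∧
  ∀ (U : B) (ι : Type u) (V : ι → B), (∀ i, (V i : Opens X) ≤ (U : Opens X)) →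
      (U : Opens X) ≤ ⨆ i, (V i : Opens X) →
      ∃ c ∈ C U, ∀ i' : c.ι, ∃ i, (c.V i' : Opens X) ≤ (V i : Opens X)

variable {F} {C : ∀ _U : B, Set (ShB.Cover B)}

lemma sep_of_cofinal (hC : Cofinal C) (h : ∀ U, ∀ c ∈ C U, ShB.GluesUniquely F c) {U : B}
    {s t : F.obj U} (e : ∀ x ∈ (U : Opens X), ∃ (W : B) (_ : x ∈ (W : Opens X))
      (hW : (W : Opens X) ≤ (U : Opens X)), F.res hW s = F.res hW t) : s = t := by
  choose W hxW hWU hres using e
  obtain ⟨c, hc, href⟩ := hC.2 U (U : Opens X) (fun p => W p.1 p.2) (fun p => hWU p.1 p.2)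
    (fun x hx => Opens.mem_iSup.2 ⟨⟨x, hx⟩, hxW x hx⟩)
  obtain rfl := hC.1 U c hc
  obtain ⟨v, -, hu⟩ := h _ c hc (fun i => F.res (c.V_le i) s) (fun i j k => by
    rw [F.res_comp, F.res_comp])
  refine (hu s fun i => rfl).trans (hu t fun i => ?_).symm
  obtain ⟨p, hp⟩ := href i
  have e := congrArg (F.res hp) (hres p.1 p.2)
  rw [F.res_comp, F.res_comp] at e
  exact e.symm

lemma isSheaf_of_cofinal (hB : Opens.IsBasis B) (hC : Cofinal C)
    (h : ∀ U, ∀ c ∈ C U, ShB.GluesUniquely F c) : ShB.IsSheaf F := by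
  intro d s hs
  obtain ⟨c, hc, href⟩ := hC.2 d.U d.ι d.V d.V_le d.V_cover
  choose a ha using href
  have key : ∀ (i j : d.ι) (O : B) (hi : (O : Opens X) ≤ (d.V i : Opens X))
      (hj : (O : Opens X) ≤ (d.V j : Opens X)), F.res hi (s i) = F.res hj (s j) := by
    intro i j O hi hj
    refine sep_of_cofinal hC h fun x hx => ?_
    obtain ⟨k, hk⟩ := mem_iSup_of_cover (d.W_cover i j) (⟨hi hx, hj hx⟩ : x ∈ (d.V i : Opens X) ⊓ d.V j)
    obtain ⟨W, hxW, hW⟩ := exists_member hB (U := (O : Opens X) ⊓ d.W i j k) ⟨hx, hk⟩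
    refine ⟨W, hxW, hW.trans inf_le_left, ?_⟩
    have e := congrArg (F.res (V := W) (hW.trans inf_le_right)) (hs i j k)
    rw [F.res_comp, F.res_comp] at e
    rw [F.res_comp, F.res_comp]
    exact e
  have hcU := hC.1 _ c hc
  obtain ⟨t, ht, -⟩ := h _ c hc (fun i => F.res (ha i) (s (a i))) (fun i j k => by
    rw [F.res_comp, F.res_comp]; exact key _ _ _ _ _)
  have hsep : ∀ t t' : F.obj d.U, (∀ i, F.res (d.V_le i) t = F.res (d.V_le i) t') → t = t' := by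
    intro t t' e
    refine sep_of_cofinal hC h fun x hx => ?_
    obtain ⟨i, hi⟩ := mem_iSup_of_cover d.V_cover hx
    exact ⟨d.V i, hi, d.V_le i, e i⟩
  have hUd : (d.U : Opens X) ≤ (c.U : Opens X) := le_of_eq (congrArg Subtype.val hcU.symm)
  refine ⟨F.res hUd t, fun i => ?_, fun t' ht' => hsep _ _ fun i => (ht' i).trans ?_⟩
  · rw [F.res_comp]
    refine sep_of_cofinal hC h fun x hx => ?_
    obtain ⟨i', hi'⟩ := mem_iSup_of_cover c.V_cover (hUd (d.V_le i hx))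
    obtain ⟨W, hxW, hW⟩ := exists_member hB (U := (d.V i : Opens X) ⊓ c.V i') ⟨hx, hi'⟩
    refine ⟨W, hxW, hW.trans inf_le_left, ?_⟩
    have e := congrArg (F.res (V := W) (hW.trans inf_le_right)) (ht i')
    rw [F.res_comp, F.res_comp] at e
    rw [F.res_comp]
    exact e.trans (key (a i') i W ((hW.trans inf_le_right).trans (ha i')) (hW.trans inf_le_left))
  · rw [F.res_comp]
    refine sep_of_cofinal hC h fun x hx => ?_
    obtain ⟨i', hi'⟩ := mem_iSup_of_cover c.V_cover (hUd (d.V_le i hx))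
    obtain ⟨W, hxW, hW⟩ := exists_member hB (U := (d.V i : Opens X) ⊓ c.V i') ⟨hx, hi'⟩
    refine ⟨W, hxW, hW.trans inf_le_left, ?_⟩
    have e := congrArg (F.res (V := W) (hW.trans inf_le_right)) (ht i')
    rw [F.res_comp, F.res_comp] at e
    rw [F.res_comp]
    exact ((e.trans (key (a i') i W ((hW.trans inf_le_right).trans (ha i')) (hW.trans inf_le_left)))).symm

/-- All covers form a cofinal system. -/
lemma cofinal_all (hB : Opens.IsBasis B) : Cofinal (fun U : B => {c : ShB.Cover B | c.U = U}) := by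
  refine ⟨fun U c hc => hc, fun U ι V hle hcov => ?_⟩
  refine ⟨⟨U, ι, V, hle, hcov, fun i j => {W : B // (W : Opens X) ≤ V i ∧ (W : Opens X) ≤ V j},
    fun i j k => k.1, fun i j k => k.2.1, fun i j k => k.2.2, fun i j x hx => ?_⟩,
    rfl, fun i => ⟨i, le_rfl⟩⟩
  obtain ⟨W, hxW, hW⟩ := exists_member hB hx
  exact Opens.mem_iSup.2 ⟨⟨W, hW.trans inf_le_left, hW.trans inf_le_right⟩, hxW⟩

variable (hB : Opens.IsBasis B) (hF : ShB.IsSheaf F)

include hB hF in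
/-- Sheaves on a basis are separated. -/
lemma sep {U : B} {s t : F.obj U} (e : ∀ x ∈ (U : Opens X), ∃ (W : B) (_ : x ∈ (W : Opens X))
      (hW : (W : Opens X) ≤ (U : Opens X)), F.res hW s = F.res hW t) : s = t :=
  sep_of_cofinal (cofinal_all hB) (fun _ c _ => hF c) e

include hF in
/-- Gluing for sheaves on a basis, in terms of points. -/
lemma glue {U : B} {ι : Type u} (V : ι → B) (hle : ∀ i, (V i : Opens X) ≤ (U : Opens X))
    (hcov : (U : Opens X) ≤ ⨆ i, (V i : Opens X)) (s : ∀ i, F.obj (V i))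
    (hs : ∀ i j, ∀ x ∈ (V i : Opens X) ⊓ (V j : Opens X), ∃ (W : B) (_ : x ∈ (W : Opens X))
      (hi : (W : Opens X) ≤ (V i : Opens X)) (hj : (W : Opens X) ≤ (V j : Opens X)),
      F.res hi (s i) = F.res hj (s j)) :
    ∃ t : F.obj U, ∀ i, F.res (hle i) t = s i := by
  choose W hxW hi hj he using hs
  obtain ⟨t, ht, -⟩ := hF ⟨U, ι, V, hle, hcov,
    fun i j => {x : X // x ∈ (V i : Opens X) ⊓ (V j : Opens X)},
    fun i j p => W i j p.1 p.2, fun i j p => hi i j p.1 p.2, fun i j p => hj i j p.1 p.2,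
    fun i j x hx => Opens.mem_iSup.2 ⟨⟨x, hx⟩, hxW i j x hx⟩⟩ s (fun i j p => he i j p.1 p.2)
  exact ⟨t, ht⟩

include hB in
lemma germ_eq_iff {x : X} {U U' : B} (hx : x ∈ (U : Opens X)) (hx' : x ∈ (U' : Opens X))
    (s : F.obj U) (t : F.obj U') : ShB.germ F x hx s = ShB.germ F x hx' t ↔
      ∃ (W : B) (_ : x ∈ (W : Opens X)) (ha : (W : Opens X) ≤ (U : Opens X))
        (hb : (W : Opens X) ≤ (U' : Opens X)), F.res ha s = F.res hb t := by
  refine ⟨fun h => ?_, fun h => Quot.sound h⟩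
  have heq : Equivalence (ShB.StalkRel F x) := by
    refine ⟨fun a => ⟨a.1.1, a.1.2, le_rfl, le_rfl, rfl⟩, ?_, ?_⟩
    · rintro a b ⟨W, hW, ha, hb, e⟩
      exact ⟨W, hW, hb, ha, e.symm⟩
    · rintro a b c ⟨W, hW, ha, hb, e⟩ ⟨W', hW', hb', hc, e'⟩
      obtain ⟨O, hxO, hO⟩ := exists_member hB (U := (W : Opens X) ⊓ W') ⟨hW, hW'⟩
      refine ⟨O, hxO, (hO.trans inf_le_left).trans ha, (hO.trans inf_le_right).trans hc, ?_⟩
      have h₁ := congrArg (F.res (V := O) (hO.trans inf_le_left)) e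
      have h₂ := congrArg (F.res (V := O) (hO.trans inf_le_right)) e'
      rw [F.res_comp, F.res_comp] at h₁ h₂
      exact h₁.trans h₂
  exact heq.eqvGen_iff.1 (Quot.eqvGen_exact h)

/-- Compatible families on the members contained in an open. -/
def extObj (F : ShB.Pre B) (O : Opens X) : Type u :=
  {s : ∀ U : {U : B // (U : Opens X) ≤ O}, F.obj U.1 //
    ∀ (U V : {U : B // (U : Opens X) ≤ O}) (h : (V.1 : Opens X) ≤ (U.1 : Opens X)), F.res h (s U) = s V}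

/-- The extension of a sheaf on a basis to all opens. -/
def extPsh (F : ShB.Pre B) : TopCat.Presheaf (Type u) (TopCat.of X) where
  obj O := extObj F O.unop
  map {O O'} f := ↾ fun s =>
    ⟨fun U => s.1 ⟨U.1, U.2.trans f.unop.le⟩, fun U V h => s.2 ⟨U.1, U.2.trans f.unop.le⟩ ⟨V.1, V.2.trans f.unop.le⟩ h⟩

include hB hF in
lemma extPsh_isSheaf : (extPsh F).IsSheaf := by
  rw [TopCat.Presheaf.isSheaf_iff_isSheafUniqueGluing]
  intro ι O sf hsf
  have hcompat : ∀ (i j : ι) (U : B) (hi : (U : Opens X) ≤ O i) (hj : (U : Opens X) ≤ O j),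
      (sf i).1 ⟨U, hi⟩ = (sf j).1 ⟨U, hj⟩ := fun i j U hi hj =>
    congrFun (congrArg Subtype.val (hsf i j)) ⟨U, le_inf hi hj⟩
  have ex : ∀ U : {U : B // (U : Opens X) ≤ iSup O}, ∃ t : F.obj U.1,
      ∀ (W : B) (hW : (W : Opens X) ≤ U.1) (i : ι) (hi : (W : Opens X) ≤ O i),
        F.res hW t = (sf i).1 ⟨W, hi⟩ := by
    intro U
    let κ := {p : B × ι // (p.1 : Opens X) ≤ (U.1 : Opens X) ∧ (p.1 : Opens X) ≤ O p.2}
    have hcov : (U.1 : Opens X) ≤ ⨆ p : κ, (p.1.1 : Opens X) := by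
      intro x hx
      obtain ⟨i, hi⟩ := Opens.mem_iSup.1 (U.2 hx)
      obtain ⟨W, hxW, hW⟩ := exists_member hB (U := (U.1 : Opens X) ⊓ O i) ⟨hx, hi⟩
      exact Opens.mem_iSup.2 ⟨⟨(W, i), hW.trans inf_le_left, hW.trans inf_le_right⟩, hxW⟩
    obtain ⟨t, ht⟩ := glue hF (U := U.1) (fun p : κ => p.1.1) (fun p => p.2.1) hcov
      (fun p => (sf p.1.2).1 ⟨p.1.1, p.2.2⟩) (fun p q x hx => by
        obtain ⟨W, hxW, hW⟩ := exists_member hB hx
        refine ⟨W, hxW, hW.trans inf_le_left, hW.trans inf_le_right, ?_⟩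
        rw [(sf p.1.2).2 ⟨p.1.1, p.2.2⟩ ⟨W, (hW.trans inf_le_left).trans p.2.2⟩,
          (sf q.1.2).2 ⟨q.1.1, q.2.2⟩ ⟨W, (hW.trans inf_le_right).trans q.2.2⟩]
        exact hcompat _ _ _ _ _)
    exact ⟨t, fun W hW i hi => ht ⟨(W, i), hW, hi⟩⟩
  choose g hg using ex
  refine ⟨⟨g, fun U V h => sep hB hF fun x hx => ?_⟩, fun i => Subtype.ext (funext fun W => ?_),
    fun g' hg' => Subtype.ext (funext fun U => sep hB hF fun x hx => ?_)⟩
  · obtain ⟨i, hi⟩ := Opens.mem_iSup.1 (V.2 hx)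
    obtain ⟨W, hxW, hW⟩ := exists_member hB (U := (V.1 : Opens X) ⊓ O i) ⟨hx, hi⟩
    refine ⟨W, hxW, hW.trans inf_le_left, ?_⟩
    rw [F.res_comp, hg U W _ i (hW.trans inf_le_right), hg V W _ i (hW.trans inf_le_right)]
  · change g ⟨W.1, _⟩ = (sf i).1 W
    exact (F.res_id _ _).symm.trans (hg ⟨W.1, W.2.trans (le_iSup O i)⟩ W.1 le_rfl i W.2)
  · obtain ⟨i, hi⟩ := Opens.mem_iSup.1 (U.2 hx)
    obtain ⟨W, hxW, hW⟩ := exists_member hB (U := (U.1 : Opens X) ⊓ O i) ⟨hx, hi⟩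
    refine ⟨W, hxW, hW.trans inf_le_left, ?_⟩
    rw [hg U W _ i (hW.trans inf_le_right), g'.2 U ⟨W, (hW.trans inf_le_left).trans U.2⟩]
    exact congrFun (congrArg Subtype.val (hg' i)) ⟨W, hW.trans inf_le_right⟩

omit hB in
lemma sheaf_sep {Y : TopCat.{u}} {BY : Set (Opens Y)} (hBY : Opens.IsBasis BY)
    (G : Y.Sheaf (Type u)) {O : Opens Y} {s t : G.presheaf.obj (op O)}
    (h : ∀ (U : BY) (hU : (U : Opens Y) ≤ O),
      G.presheaf.map (homOfLE hU).op s = G.presheaf.map (homOfLE hU).op t) : s = t :=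
  G.eq_of_locally_eq' (fun U : {U : BY // (U : Opens Y) ≤ O} => (U.1 : Opens Y)) O
    (fun U => homOfLE U.2) (fun x hx => by
      obtain ⟨W, hxW, hW⟩ := exists_member hBY hx
      exact Opens.mem_iSup.2 ⟨⟨W, hW⟩, hxW⟩) s t (fun U => h U.1 U.2)

/-- Glue in a sheaf from a family indexed by small opens. -/
lemma sheaf_glue {Y : TopCat.{u}} (G : Y.Sheaf (Type u)) {O : Opens Y} {ι : Type u}
    (V : ι → Opens Y) (hle : ∀ i, V i ≤ O) (hcov : O ≤ ⨆ i, V i) (s : ∀ i, G.presheaf.obj (op (V i)))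
    (hs : ∀ i j, ∀ x ∈ V i ⊓ V j, ∃ (W : Opens Y) (_ : x ∈ W) (hi : W ≤ V i) (hj : W ≤ V j),
      G.presheaf.map (homOfLE hi).op (s i) = G.presheaf.map (homOfLE hj).op (s j)) :
    ∃ t : G.presheaf.obj (op O), ∀ i, G.presheaf.map (homOfLE (hle i)).op t = s i := by
  refine (G.existsUnique_gluing' V O (fun i => homOfLE (hle i)) hcov s (fun i j => ?_)).exists
  choose W hxW hi hj he using hs i j
  refine G.eq_of_locally_eq' (fun x : {x // x ∈ V i ⊓ V j} => W x.1 x.2) (V i ⊓ V j)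
    (fun x => homOfLE (le_inf (hi x.1 x.2) (hj x.1 x.2)))
    (fun x hx => Opens.mem_iSup.2 ⟨⟨x, hx⟩, hxW x hx⟩) _ _ (fun x => ?_)
  rw [← ConcreteCategory.comp_apply, ← ConcreteCategory.comp_apply, ← Functor.map_comp, ← Functor.map_comp]
  exact he x.1 x.2

end Groth.Agent.ShB16
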